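import Cfsg.Agent.LThreeCo1.Ranks
import Cfsg.Agent.CoFive.Ranks
import Cfsg.Agent.KFacts.Co1D4.TwoB
import Cfsg.Agent.CoOneType.MonoWord
import Cfsg.Agent.PreUniqCo.TrWord
import Cfsg.Agent.H633.TC.CoDat

/-!
# `Co1`: elements of order 2, 3, 5 as products of two conjugates of an element of order 35 (helper633; generated)

`a` : an element of order 35 of `Co0` (fixed point free on the lattice), `A = pr a`; `P35 l` : `l` is the product of two
conjugates of `A`.
-/

set_option autoImplicit false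
set_option maxRecDepth 20000

namespace Cfsg.Agent.H633.TC.CoCert

open Cfsg Cfsg.Agent.LThreeCo1.Ev Cfsg.Agent.SporadicStructure.Co0Matrix Cfsg.Agent.CoOneType.CoEval
open Cfsg.Agent.SporadicA Cfsg.Agent.SporadicA.Co0Mono Cfsg.Agent.CoOneType.MonoWord
open Cfsg.Spor (Co1)

/-- the matrices -/
def nX : ℕ → ℕ
  | 0 => n0
  | 1 => n1
  | 2 => n2
  | 3 => n3
  | 4 => n4
  | 5 => n5
  | 6 => n6
  | 7 => n7
  | 8 => n8
  | 9 => n9
  | 10 => n10
  | 11 => n11
  | 12 => n12
  | 13 => n13
  | 14 => n14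
  | 15 => n15
  | 16 => n16
  | _ => n17

theorem okX (i : ℕ) : okN (nX i) = true := by
  unfold nX
  split
  · exact ok0
  · exact ok1
  · exact ok2
  · exact ok3
  · exact ok4
  · exact ok5
  · exact ok6
  · exact ok7
  · exact ok8
  · exact ok9
  · exact ok10
  · exact ok11
  · exact ok12
  · exact ok13
  · exact ok14
  · exact ok15
  · exact ok16
  · exact ok17

/-- the elements -/
noncomputable def ex (i : ℕ) : Co0 := mk (ok_of_okN (okX i))

theorem repX (i : ℕ) : Rep (ex i) (dec (nX i)) := rep_mk _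

/-- the element of order 35 -/
noncomputable def a : Co0 := ex 0

/-- the element of order 35 of `Co1` -/
noncomputable def A : Co1 := pr a

/-- products of two conjugates of `A` -/
def P35 (l : Co1) : Prop := ∃ u v : Co1, l = (u * A * u⁻¹) * (v * A * v⁻¹)

/-- letters of two systems -/
noncomputable def eC (E : ℕ → Co0) (i : ℕ) : Co0 := if i < 100 then ex i else E (i - 100)

/-- their matrices -/
def MC (MM : ℕ → List (List ℤ)) (i : ℕ) : List (List ℤ) := if i < 100 then dec (nX i) else MM (i - 100)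

theorem repC {E : ℕ → Co0} {MM : ℕ → List (List ℤ)} (hM : ∀ i, Rep (E i) (MM i)) (i : ℕ) : Rep (eC E i) (MC MM i) := by
  unfold eC MC
  split
  · exact repX i
  · exact hM _

/-- equality in `Co1` -/
def eqS (M : ℕ → List (List ℤ)) (w w' : List ℕ) : Bool :=
  let l := foldZ M w betaL
  let l' := foldZ M w' betaL
  eqL l l' || eqL l (negL l')

theorem eq_of_eqS {e : ℕ → Co0} {M : ℕ → List (List ℤ)} (hM : ∀ i, Rep (e i) (M i)) {w w' : List ℕ}
    (h : eqS M w w' = true) : (w.map fun i => pr (e i)).prod = (w'.map fun i => pr (e i)).prod := by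
  apply eq_of_sameB hM
  unfold eqS at h
  rw [foldZ_eq, foldZ_eq] at h
  exact h

/-- the check -/
def chk (MM : ℕ → List (List ℤ)) (lw : List ℕ) (u : ℕ) (vw : List ℕ) : Bool :=
  eqS (MC MM) (u :: (lw.map (· + 100) ++ vw)) (0 :: u :: (vw ++ [0]))

theorem cert {E : ℕ → Co0} {MM : ℕ → List (List ℤ)} (hM : ∀ i, Rep (E i) (MM i)) (lw : List ℕ) (u : ℕ) (vw : List ℕ)
    (h : chk MM lw u vw = true) : P35 (pr (lw.map E).prod) := by
  have h1 := eq_of_eqS (repC hM) h
  simp only [List.map_cons, List.map_append, List.prod_cons, List.prod_append, List.map_map, List.map_nil,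
    List.prod_nil, mul_one] at h1
  have e1 : (lw.map ((fun i => pr (eC E i)) ∘ fun x => x + 100)) = lw.map fun i => pr (E i) := by
    refine List.map_congr_left fun i _ => ?_
    show pr (eC E (i + 100)) = pr (E i)
    unfold eC
    rw [if_neg (by omega), Nat.add_sub_cancel]
  rw [e1, map_prod_pr] at h1
  have e0 : pr (eC E 0) = A := by
    unfold eC
    rw [if_pos (by norm_num)]
    rfl
  rw [e0] at h1
  set U : Co1 := pr (eC E u)
  set W : Co1 := (vw.map fun i => pr (eC E i)).prod
  refine ⟨U⁻¹, W, ?_⟩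
  have h2 : pr (lw.map E).prod = U⁻¹ * (U * (pr (lw.map E).prod * W)) * W⁻¹ := by group
  rw [h2, h1]
  group

/-! ### the order of `A` -/

theorem k_pow : eqB (fun i => dec (nX i)) (List.replicate 35 0) [] = true := by decide +kernel
theorem k_5 : neB (fun i => dec (nX i)) (List.replicate 5 0) = true := by decide +kernel
theorem k_7 : neB (fun i => dec (nX i)) (List.replicate 7 0) = true := by decide +kernel

theorem a_pow : a ^ 35 = 1 := by
  have h := eq_of_eqB repX k_pow
  rw [List.map_replicate, List.prod_replicate] at h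
  exact h

theorem A_pow : A ^ 35 = 1 := by
  unfold A
  rw [← map_pow, a_pow, map_one]

theorem A_pow_ne {n : ℕ} (h : neB (fun i => dec (nX i)) (List.replicate n 0) = true) : A ^ n ≠ 1 := by
  have h1 := ne_one_of_neB repX h
  rw [List.map_replicate, List.prod_replicate] at h1
  exact h1

theorem orderOf_A : orderOf A = 35 := by
  have h1 : orderOf A ∣ 35 := orderOf_dvd_of_pow_eq_one A_pow
  have h2 : orderOf A ∈ Nat.divisors 35 := Nat.mem_divisors.2 ⟨h1, by norm_num⟩
  rw [show Nat.divisors 35 = {1, 5, 7, 35} by decide +kernel] at h2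
  simp only [Finset.mem_insert, Finset.mem_singleton] at h2
  rcases h2 with h | h | h | h
  · exact absurd (by rw [orderOf_eq_one_iff.1 h, one_pow]) (A_pow_ne k_5)
  · exact absurd (by rw [← h, pow_orderOf_eq_one]) (A_pow_ne k_5)
  · exact absurd (by rw [← h, pow_orderOf_eq_one]) (A_pow_ne k_7)
  · exact h

theorem orderOf_a : orderOf a = 35 := by
  refine Nat.dvd_antisymm (orderOf_dvd_of_pow_eq_one a_pow) ?_
  rw [← orderOf_A]
  exact orderOf_map_dvd _ a

/-- `A` is conjugate to its inverse -/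
theorem A_inv : ∃ r : Co1, r * A * r⁻¹ = A⁻¹ := by
  have h := eq_of_eqS repX (w := [5, 0]) (w' := List.replicate 34 0 ++ [5]) (by decide +kernel)
  rw [List.map_append, List.prod_append, List.map_replicate, List.prod_replicate] at h
  simp only [List.map_cons, List.map_nil, List.prod_cons, List.prod_nil, mul_one] at h
  refine ⟨pr (ex 5), ?_⟩
  have h1 : pr (ex 0) = A := rfl
  rw [h1] at h
  rw [h, mul_inv_cancel_right]
  exact eq_inv_of_mul_eq_one_left (by rw [← pow_succ]; exact A_pow)

theorem P35_one : P35 1 := by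
  obtain ⟨r, hr⟩ := A_inv
  exact ⟨1, r, by rw [hr]; group⟩

theorem P35.conj {l : Co1} (h : P35 l) (k : Co1) : P35 (k * l * k⁻¹) := by
  obtain ⟨u, v, rfl⟩ := h
  exact ⟨k * u, k * v, by group⟩

theorem P35.of_isConj {l m : Co1} (h : P35 l) (hc : IsConj l m) : P35 m := by
  obtain ⟨k, rfl⟩ := isConj_iff.1 hc
  exact h.conj k

theorem P35.inv {l : Co1} (h : P35 l) : P35 l⁻¹ := by
  obtain ⟨r, hr⟩ := A_inv
  obtain ⟨u, v, rfl⟩ := h
  refine ⟨v * r, u * r, ?_⟩
  have h1 : v * r * A * (v * r)⁻¹ = (v * A * v⁻¹)⁻¹ := by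
    calc v * r * A * (v * r)⁻¹ = v * (r * A * r⁻¹) * v⁻¹ := by group
      _ = _ := by rw [hr]; group
  have h2 : u * r * A * (u * r)⁻¹ = (u * A * u⁻¹)⁻¹ := by
    calc u * r * A * (u * r)⁻¹ = u * (r * A * r⁻¹) * u⁻¹ := by group
      _ = _ := by rw [hr]; group
  rw [h1, h2, mul_inv_rev]

/-! ### no fixed vectors -/

open Cfsg.Agent.LThreeMB (fr)
open Cfsg.Agent.Co2Type.Mono (tr8)

theorem orderOf_a7 : orderOf (a ^ 7) = 5 := by
  rw [orderOf_pow' a (by norm_num), orderOf_a]
  norm_num

theorem tr_a7 : PreUniqCo.TrWord.trW (fun i => dec (nX i)) (List.replicate 7 0) = -48 := by decide +kernel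

/-- `A ^ 7` has no nonzero fixed vector in `Λ / 2Λ` -/
theorem fr_A7 : fr (A ^ 7) = 1 := by
  have h1 := Cfsg.Agent.PreUniqCo.TrWord.tr8_word repX (List.replicate 7 0)
  rw [List.map_replicate, List.prod_replicate, tr_a7] at h1
  have h2 : (A ^ 7 : Co1) = QuotientGroup.mk (a ^ 7) := rfl
  rw [h2]
  rcases Cfsg.Agent.CoFive.Class.main orderOf_a7 with h | h | h
  · have h3 := Cfsg.Agent.CoFive.Dims.tr8_isConj h
    rw [Cfsg.Agent.CoFive.Dims.tr8_r8] at h3
    rw [show ex 0 = a from rfl, h3] at h1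
    exact absurd h1 (by norm_num)
  · have h3 := Cfsg.Agent.CoFive.Dims.tr8_isConj h
    rw [Cfsg.Agent.CoFive.Dims.tr8_r4] at h3
    rw [show ex 0 = a from rfl, h3] at h1
    exact absurd h1 (by norm_num)
  · rw [Cfsg.Agent.CoFive.Ranks.fr_of_isConj (Cfsg.Agent.CoFive.Ranks.isConj_mk h), Cfsg.Agent.CoFive.Ranks.fr_r0]

/-! ### the certificates -/

/-- class 2B -/
theorem cert_w : P35 Cfsg.Agent.KFacts.Co1D4.TwoB.w := by
  have h := cert Cfsg.Agent.KFacts.Co1D4.Letters.hM [6] 8 [2, 2] (by decide +kernel)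
  rwa [List.map_singleton, List.prod_singleton] at h


/-- order three, `c0` -/
theorem cert_c0 : P35 (QuotientGroup.mk Cfsg.Agent.LThreeCo1.Class.c0 : Co1) := by
  have h := cert (E := fun _ => Cfsg.Agent.LThreeCo1.Class.c0) (MM := fun _ => Cfsg.Agent.LThreeCo1.Rel.M 1) (fun _ => Cfsg.Agent.LThreeCo1.Ranks.rep0) [0] 9 [4, 4] (by decide +kernel)
  rwa [List.map_singleton, List.prod_singleton] at h

/-- order three, `c6` -/
theorem cert_c6 : P35 (QuotientGroup.mk Cfsg.Agent.LThreeCo1.Class.c6 : Co1) := by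
  have h := cert (E := fun _ => Cfsg.Agent.LThreeCo1.Class.c6) (MM := fun _ => Cfsg.Agent.LThreeCo1.Ranks.Q6) (fun _ => Cfsg.Agent.LThreeCo1.Ranks.rep6) [0] 10 [4, 2, 1, 1] (by decide +kernel)
  rwa [List.map_singleton, List.prod_singleton] at h

/-- order three, `c8` -/
theorem cert_c8 : P35 (QuotientGroup.mk Cfsg.Agent.LThreeCo1.Class.c8 : Co1) := by
  have h := cert (E := fun _ => Cfsg.Agent.LThreeCo1.Class.c8) (MM := fun _ => Cfsg.Agent.LThreeCo1.Rel.M 29) (fun _ => Cfsg.Agent.LThreeCo1.Ranks.rep8) [0] 11 [4, 1, 1, 1] (by decide +kernel)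
  rwa [List.map_singleton, List.prod_singleton] at h

/-- order three, `c12` -/
theorem cert_c12 : P35 (QuotientGroup.mk Cfsg.Agent.LThreeCo1.Class.c12 : Co1) := by
  have h := cert (E := fun _ => Cfsg.Agent.LThreeCo1.Class.c12) (MM := fun _ => Cfsg.Agent.LThreeCo1.Ranks.Q12) (fun _ => Cfsg.Agent.LThreeCo1.Ranks.rep12) [0] 12 [1, 3] (by decide +kernel)
  rwa [List.map_singleton, List.prod_singleton] at h

/-- order five, `r8` -/
theorem cert_r8 : P35 (QuotientGroup.mk Cfsg.Agent.CoFive.Class.r8 : Co1) := by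
  have h := cert Cfsg.Agent.CoFive.Rel.rep [3] 13 [3, 4, 3] (by decide +kernel)
  simp only [List.map_cons, List.map_nil, List.prod_cons, List.prod_nil, mul_one] at h
  exact h

/-- order five, `r4` -/
theorem cert_r4 : P35 (QuotientGroup.mk Cfsg.Agent.CoFive.Class.r4 : Co1) := by
  have h := cert Cfsg.Agent.CoFive.Rel.rep [1] 14 [1, 2, 3] (by decide +kernel)
  simp only [List.map_cons, List.map_nil, List.prod_cons, List.prod_nil, mul_one] at h
  exact h

/-- order five, `r0` -/
theorem cert_r0 : P35 (QuotientGroup.mk Cfsg.Agent.CoFive.Class.r0 : Co1) := by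
  have h := cert Cfsg.Agent.CoFive.Rel.rep [2, 3, 3] 15 [3, 1] (by decide +kernel)
  simp only [List.map_cons, List.map_nil, List.prod_cons, List.prod_nil, mul_one] at h
  exact h

theorem code_oct : GolayBase.isCode 13062145 = true := by decide +kernel

theorem sign_oct : ex 6 = signCo0 (cw 13062145 code_oct) := by
  have h := mono_eq repX [6] 13062145 code_oct 1 id (fun _ => rfl) (by decide +kernel)
  rw [List.map_singleton, List.prod_singleton, map_one, mul_one] at h
  exact h

/-- the sign change `oct` -/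
theorem cert_oct : P35 (pr (signCo0 (cw 13062145 code_oct))) := by
  have h := cert repX [6] 16 [2, 3, 2] (by decide +kernel)
  rw [List.map_singleton, List.prod_singleton, sign_oct] at h
  exact h

theorem code_dod : GolayBase.isCode 8245261 = true := by decide +kernel

theorem sign_dod : ex 7 = signCo0 (cw 8245261 code_dod) := by
  have h := mono_eq repX [7] 8245261 code_dod 1 id (fun _ => rfl) (by decide +kernel)
  rw [List.map_singleton, List.prod_singleton, map_one, mul_one] at h
  exact h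

/-- the sign change `dod` -/
theorem cert_dod : P35 (pr (signCo0 (cw 8245261 code_dod))) := by
  have h := cert repX [7] 17 [1, 2] (by decide +kernel)
  rw [List.map_singleton, List.prod_singleton, sign_dod] at h
  exact h

end Cfsg.Agent.H633.TC.CoCert
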